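import Cfsg.Agent.H388.CoMat.Data

/-!
# Kernel checks
-/

set_option autoImplicit false

namespace Cfsg.Agent.H388.CoMat

open Cfsg Cfsg.Agent.SporadicA Cfsg.Agent.SporadicStructure Cfsg.Agent.SporadicStructure.Co0Matrix
  Cfsg.Agent.CoOneType.CoEval Cfsg.Agent.CoOneType.CoFast Cfsg.Agent.Co2Type.Mono

theorem ok35 : Ok R35 C35 := ok_of_okZ (by decide +kernel)

theorem ok15 : Ok R15 C15 := ok_of_okZ (by decide +kernel)

theorem ok21 : Ok R21 C21 := ok_of_okZ (by decide +kernel)

theorem tr35 : trL R35 1 = 8 ∧ trL R35 2 = 8 := by decide +kernel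

theorem tr15 : trL R15 1 = 8 ∧ trL R15 2 = 8 := by decide +kernel

theorem tr21 : trL R21 1 = 0 ∧ trL R21 2 = 0 := by decide +kernel

/-- explicit elements -/
def g35 : Co0 := mk ok35

def g15 : Co0 := mk ok15

def g21 : Co0 := mk ok21

theorem order_g35 : orderOf (pr g35) = 35 := by
  refine order_pr (rep_mk ok35) (by norm_num) (by decide +kernel) fun p hp => ?_
  have h : p ∈ ({5, 7} : Finset ℕ) := by
    rw [show ({5, 7} : Finset ℕ) = (35 : ℕ).primeFactors by decide +kernel]
    exact hp
  simp only [Finset.mem_insert, Finset.mem_singleton] at h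
  rcases h with rfl | rfl <;> decide +kernel

theorem order_g15 : orderOf (pr g15) = 15 := by
  refine order_pr (rep_mk ok15) (by norm_num) (by decide +kernel) fun p hp => ?_
  have h : p ∈ ({3, 5} : Finset ℕ) := by
    rw [show ({3, 5} : Finset ℕ) = (15 : ℕ).primeFactors by decide +kernel]
    exact hp
  simp only [Finset.mem_insert, Finset.mem_singleton] at h
  rcases h with rfl | rfl <;> decide +kernel

theorem order_g21 : orderOf (pr g21) = 21 := by
  refine order_pr (rep_mk ok21) (by norm_num) (by decide +kernel) fun p hp => ?_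
  have h : p ∈ ({3, 7} : Finset ℕ) := by
    rw [show ({3, 7} : Finset ℕ) = (21 : ℕ).primeFactors by decide +kernel]
    exact hp
  simp only [Finset.mem_insert, Finset.mem_singleton] at h
  rcases h with rfl | rfl <;> decide +kernel

end Cfsg.Agent.H388.CoMat
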