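import Cfsg.Agent.H388.CoMat.Base

/-!
# Explicit elements of `Co0` of orders 35, 15, 21
-/

set_option autoImplicit false

namespace Cfsg.Agent.H388.CoMat

def R35 : List (List ℤ) := [[0,-2,2,0,2,0,0,-2,0,-2,2,2,2,0,0,2,-2,0,4,0,-2,2,0,0],
  [2,0,0,2,0,-2,-2,0,2,0,0,-4,0,-2,-2,0,0,2,2,2,0,0,2,-2],
  [-2,0,4,2,0,2,-2,0,2,0,0,0,0,2,-2,0,0,-2,-2,2,0,0,-2,-2],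
  [0,-2,-2,4,2,0,0,2,0,-2,-2,2,2,0,0,-2,2,0,0,0,2,2,0,0],
  [2,0,0,2,0,-2,-2,0,-2,0,0,0,0,-2,-2,0,0,-2,-2,-2,-4,0,-2,2],
  [0,-2,2,0,-2,0,0,2,0,-2,-2,2,-2,-4,0,2,-2,0,0,0,2,-2,0,0],
  [0,2,2,0,-2,0,0,2,0,2,-2,2,2,0,0,-2,-2,4,0,0,-2,2,0,0],
  [0,-2,-2,0,-2,0,0,-2,0,2,-2,2,-2,0,0,2,2,0,0,0,-2,2,0,-4],
  [-2,0,0,-2,0,2,-2,0,-2,0,0,0,0,-2,-2,0,4,2,2,2,0,0,-2,2],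
  [2,0,0,-2,0,-2,2,4,-2,0,0,0,0,2,-2,0,0,-2,2,2,0,0,-2,-2],
  [-2,0,0,-2,0,-2,-2,0,-2,-4,0,0,0,2,-2,0,0,2,-2,-2,0,0,2,-2],
  [0,2,-2,0,2,0,0,-2,0,-2,-2,2,-2,0,0,-2,-2,0,0,4,-2,-2,0,0],
  [0,-2,-2,0,-2,4,0,2,0,-2,2,-2,-2,0,0,-2,-2,0,0,0,-2,2,0,0],
  [0,2,-2,0,-2,0,0,-2,0,-2,-2,-2,2,0,0,2,-2,0,0,0,2,2,-4,0],
  [2,0,0,-2,0,2,-2,0,-2,0,0,0,4,-2,2,0,0,-2,-2,2,0,0,2,-2],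
  [-4,-2,-2,0,2,0,0,2,0,2,-2,-2,2,0,0,2,-2,0,0,0,-2,-2,0,0],
  [-2,0,0,2,-4,-2,-2,0,-2,0,0,0,0,2,2,0,0,-2,2,2,0,0,2,2],
  [0,2,-2,0,2,0,-4,2,0,2,2,2,-2,0,0,2,-2,0,0,0,2,2,0,0],
  [0,2,-2,0,-2,0,0,2,4,-2,2,2,2,0,0,2,2,0,0,0,-2,-2,0,0],
  [0,-2,-2,0,-2,0,0,-2,0,2,2,2,2,0,-4,-2,-2,0,0,0,2,-2,0,0],
  [-2,0,0,-2,0,-2,2,0,2,0,0,0,0,-2,-2,0,0,-2,-2,2,0,4,2,2],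
  [2,0,0,2,0,2,2,0,-2,0,0,0,0,2,-2,4,0,2,-2,2,0,0,2,2],
  [2,-4,0,-2,0,-2,-2,0,2,0,0,0,0,2,2,0,0,2,-2,2,0,0,-2,2],
  [2,0,0,-2,0,2,-2,0,2,0,-4,0,0,2,-2,0,0,-2,2,-2,0,0,2,2]]

def C35 : List (List ℤ) := [[0,2,-2,0,2,0,0,0,-2,2,-2,0,0,0,2,-4,-2,0,0,0,-2,2,2,2],
  [-2,0,0,-2,0,-2,2,-2,0,0,0,2,-2,2,0,-2,0,2,2,-2,0,0,-4,0],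
  [2,0,4,-2,0,2,2,-2,0,0,0,-2,-2,-2,0,-2,0,-2,-2,-2,0,0,0,0],
  [0,2,2,4,2,0,0,0,-2,-2,-2,0,0,0,-2,0,2,0,0,0,-2,2,-2,-2],
  [2,0,0,2,0,-2,-2,-2,0,0,0,2,-2,-2,0,2,-4,2,-2,-2,0,0,0,0],
  [0,-2,2,0,-2,0,0,0,2,-2,-2,0,4,0,2,0,-2,0,0,0,-2,2,-2,2],
  [0,-2,-2,0,-2,0,0,0,-2,2,-2,0,0,0,-2,0,-2,-4,0,0,2,2,-2,-2],
  [-2,0,0,2,0,2,2,-2,0,4,0,-2,2,-2,0,2,0,2,2,-2,0,0,0,0],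
  [0,2,2,0,-2,0,0,0,-2,-2,-2,0,0,0,-2,0,-2,0,4,0,2,-2,2,2],
  [-2,0,0,-2,0,-2,2,2,0,0,-4,-2,-2,-2,0,2,0,2,-2,2,0,0,0,0],
  [2,0,0,-2,0,-2,-2,-2,0,0,0,-2,2,-2,0,-2,0,2,2,2,0,0,0,-4],
  [2,-4,0,2,0,2,2,2,0,0,0,2,-2,-2,0,-2,0,2,2,2,0,0,0,0],
  [2,0,0,2,0,-2,2,-2,0,0,0,-2,-2,2,4,2,0,-2,2,2,0,0,0,0],
  [0,-2,2,0,-2,-4,0,0,-2,2,2,0,0,0,-2,0,2,0,0,0,-2,2,2,2],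
  [0,-2,-2,0,-2,0,0,0,-2,-2,-2,0,0,0,2,0,2,0,0,-4,-2,-2,2,-2],
  [2,0,0,-2,0,2,-2,2,0,0,0,-2,-2,2,0,2,0,2,2,-2,0,4,0,0],
  [-2,0,0,2,0,-2,-2,2,4,0,0,-2,-2,-2,0,-2,0,-2,2,-2,0,0,0,0],
  [0,2,-2,0,-2,0,4,0,2,-2,2,0,0,0,-2,0,-2,0,0,0,-2,2,2,-2],
  [4,2,-2,0,-2,0,0,0,2,2,-2,0,0,0,-2,0,2,0,0,0,-2,-2,-2,2],
  [0,2,2,0,-2,0,0,0,2,2,-2,4,0,0,2,0,2,0,0,0,2,2,2,-2],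
  [-2,0,0,2,-4,2,-2,-2,0,0,0,-2,-2,2,0,-2,0,2,-2,2,0,0,0,0],
  [2,0,0,2,0,-2,2,2,0,0,0,-2,2,2,0,-2,0,2,-2,-2,4,0,0,0],
  [0,2,-2,0,-2,0,0,0,-2,-2,2,0,0,-4,2,0,2,0,0,0,2,2,-2,2],
  [0,-2,-2,0,2,0,0,-4,2,-2,-2,0,0,0,-2,0,2,0,0,0,2,2,2,2]]

def R15 : List (List ℤ) := [[0,8,0,0,0,0,0,0,0,0,0,0,0,0,0,0,0,0,0,0,0,0,0,0],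
  [0,0,0,0,0,0,0,0,0,0,8,0,0,0,0,0,0,0,0,0,0,0,0,0],
  [0,0,0,0,0,0,8,0,0,0,0,0,0,0,0,0,0,0,0,0,0,0,0,0],
  [0,0,0,0,8,0,0,0,0,0,0,0,0,0,0,0,0,0,0,0,0,0,0,0],
  [0,0,0,0,0,0,0,0,0,0,0,0,0,0,0,0,0,0,8,0,0,0,0,0],
  [0,0,0,0,0,0,0,0,0,0,0,0,0,0,0,8,0,0,0,0,0,0,0,0],
  [0,0,0,0,0,0,0,0,0,0,0,0,0,0,0,0,0,8,0,0,0,0,0,0],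
  [0,0,0,0,0,0,0,0,8,0,0,0,0,0,0,0,0,0,0,0,0,0,0,0],
  [0,0,0,0,0,0,0,0,0,0,0,0,0,0,0,0,8,0,0,0,0,0,0,0],
  [0,0,0,0,0,0,0,0,0,0,0,0,0,0,8,0,0,0,0,0,0,0,0,0],
  [0,0,0,0,0,0,0,0,0,0,0,0,8,0,0,0,0,0,0,0,0,0,0,0],
  [0,0,0,0,0,0,0,0,0,0,0,8,0,0,0,0,0,0,0,0,0,0,0,0],
  [0,0,0,0,0,8,0,0,0,0,0,0,0,0,0,0,0,0,0,0,0,0,0,0],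
  [0,0,0,0,0,0,0,0,0,0,0,0,0,0,0,0,0,0,0,0,0,8,0,0],
  [8,0,0,0,0,0,0,0,0,0,0,0,0,0,0,0,0,0,0,0,0,0,0,0],
  [0,0,0,0,0,0,0,0,0,0,0,0,0,0,0,0,0,0,0,0,0,0,0,8],
  [0,0,0,0,0,0,0,8,0,0,0,0,0,0,0,0,0,0,0,0,0,0,0,0],
  [0,0,0,0,0,0,0,0,0,0,0,0,0,0,0,0,0,0,0,8,0,0,0,0],
  [0,0,0,0,0,0,0,0,0,0,0,0,0,8,0,0,0,0,0,0,0,0,0,0],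
  [0,0,0,0,0,0,0,0,0,0,0,0,0,0,0,0,0,0,0,0,8,0,0,0],
  [0,0,8,0,0,0,0,0,0,0,0,0,0,0,0,0,0,0,0,0,0,0,0,0],
  [0,0,0,0,0,0,0,0,0,8,0,0,0,0,0,0,0,0,0,0,0,0,0,0],
  [0,0,0,8,0,0,0,0,0,0,0,0,0,0,0,0,0,0,0,0,0,0,0,0],
  [0,0,0,0,0,0,0,0,0,0,0,0,0,0,0,0,0,0,0,0,0,0,8,0]]

def C15 : List (List ℤ) := [[0,0,0,0,0,0,0,0,0,0,0,0,0,0,8,0,0,0,0,0,0,0,0,0],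
  [8,0,0,0,0,0,0,0,0,0,0,0,0,0,0,0,0,0,0,0,0,0,0,0],
  [0,0,0,0,0,0,0,0,0,0,0,0,0,0,0,0,0,0,0,0,8,0,0,0],
  [0,0,0,0,0,0,0,0,0,0,0,0,0,0,0,0,0,0,0,0,0,0,8,0],
  [0,0,0,8,0,0,0,0,0,0,0,0,0,0,0,0,0,0,0,0,0,0,0,0],
  [0,0,0,0,0,0,0,0,0,0,0,0,8,0,0,0,0,0,0,0,0,0,0,0],
  [0,0,8,0,0,0,0,0,0,0,0,0,0,0,0,0,0,0,0,0,0,0,0,0],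
  [0,0,0,0,0,0,0,0,0,0,0,0,0,0,0,0,8,0,0,0,0,0,0,0],
  [0,0,0,0,0,0,0,8,0,0,0,0,0,0,0,0,0,0,0,0,0,0,0,0],
  [0,0,0,0,0,0,0,0,0,0,0,0,0,0,0,0,0,0,0,0,0,8,0,0],
  [0,8,0,0,0,0,0,0,0,0,0,0,0,0,0,0,0,0,0,0,0,0,0,0],
  [0,0,0,0,0,0,0,0,0,0,0,8,0,0,0,0,0,0,0,0,0,0,0,0],
  [0,0,0,0,0,0,0,0,0,0,8,0,0,0,0,0,0,0,0,0,0,0,0,0],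
  [0,0,0,0,0,0,0,0,0,0,0,0,0,0,0,0,0,0,8,0,0,0,0,0],
  [0,0,0,0,0,0,0,0,0,8,0,0,0,0,0,0,0,0,0,0,0,0,0,0],
  [0,0,0,0,0,8,0,0,0,0,0,0,0,0,0,0,0,0,0,0,0,0,0,0],
  [0,0,0,0,0,0,0,0,8,0,0,0,0,0,0,0,0,0,0,0,0,0,0,0],
  [0,0,0,0,0,0,8,0,0,0,0,0,0,0,0,0,0,0,0,0,0,0,0,0],
  [0,0,0,0,8,0,0,0,0,0,0,0,0,0,0,0,0,0,0,0,0,0,0,0],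
  [0,0,0,0,0,0,0,0,0,0,0,0,0,0,0,0,0,8,0,0,0,0,0,0],
  [0,0,0,0,0,0,0,0,0,0,0,0,0,0,0,0,0,0,0,8,0,0,0,0],
  [0,0,0,0,0,0,0,0,0,0,0,0,0,8,0,0,0,0,0,0,0,0,0,0],
  [0,0,0,0,0,0,0,0,0,0,0,0,0,0,0,0,0,0,0,0,0,0,0,8],
  [0,0,0,0,0,0,0,0,0,0,0,0,0,0,0,8,0,0,0,0,0,0,0,0]]

def R21 : List (List ℤ) := [[0,0,0,0,0,0,0,0,0,0,0,0,0,0,0,0,0,0,0,0,0,0,8,0],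
  [0,0,0,0,0,0,8,0,0,0,0,0,0,0,0,0,0,0,0,0,0,0,0,0],
  [0,0,0,0,0,0,0,8,0,0,0,0,0,0,0,0,0,0,0,0,0,0,0,0],
  [0,8,0,0,0,0,0,0,0,0,0,0,0,0,0,0,0,0,0,0,0,0,0,0],
  [0,0,0,0,0,0,0,0,0,0,0,8,0,0,0,0,0,0,0,0,0,0,0,0],
  [0,0,0,0,0,0,0,0,0,0,0,0,0,0,0,0,0,0,8,0,0,0,0,0],
  [0,0,0,0,0,0,0,0,0,0,0,0,0,0,0,8,0,0,0,0,0,0,0,0],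
  [0,0,0,0,0,0,0,0,0,0,0,0,0,0,8,0,0,0,0,0,0,0,0,0],
  [8,0,0,0,0,0,0,0,0,0,0,0,0,0,0,0,0,0,0,0,0,0,0,0],
  [0,0,0,0,0,0,0,0,0,0,0,0,0,0,0,0,0,0,0,0,0,0,0,8],
  [0,0,0,0,0,0,0,0,0,0,0,0,0,0,0,0,0,0,0,8,0,0,0,0],
  [0,0,0,0,0,0,0,0,0,0,0,0,0,8,0,0,0,0,0,0,0,0,0,0],
  [0,0,0,0,0,0,0,0,0,0,0,0,0,0,0,0,0,0,0,0,8,0,0,0],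
  [0,0,0,0,8,0,0,0,0,0,0,0,0,0,0,0,0,0,0,0,0,0,0,0],
  [0,0,0,0,0,0,0,0,0,0,0,0,0,0,0,0,0,0,0,0,0,8,0,0],
  [0,0,0,0,0,0,0,0,8,0,0,0,0,0,0,0,0,0,0,0,0,0,0,0],
  [0,0,0,0,0,0,0,0,0,0,0,0,8,0,0,0,0,0,0,0,0,0,0,0],
  [0,0,0,8,0,0,0,0,0,0,0,0,0,0,0,0,0,0,0,0,0,0,0,0],
  [0,0,8,0,0,0,0,0,0,0,0,0,0,0,0,0,0,0,0,0,0,0,0,0],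
  [0,0,0,0,0,0,0,0,0,0,0,0,0,0,0,0,8,0,0,0,0,0,0,0],
  [0,0,0,0,0,8,0,0,0,0,0,0,0,0,0,0,0,0,0,0,0,0,0,0],
  [0,0,0,0,0,0,0,0,0,0,0,0,0,0,0,0,0,8,0,0,0,0,0,0],
  [0,0,0,0,0,0,0,0,0,8,0,0,0,0,0,0,0,0,0,0,0,0,0,0],
  [0,0,0,0,0,0,0,0,0,0,8,0,0,0,0,0,0,0,0,0,0,0,0,0]]

def C21 : List (List ℤ) := [[0,0,0,0,0,0,0,0,8,0,0,0,0,0,0,0,0,0,0,0,0,0,0,0],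
  [0,0,0,8,0,0,0,0,0,0,0,0,0,0,0,0,0,0,0,0,0,0,0,0],
  [0,0,0,0,0,0,0,0,0,0,0,0,0,0,0,0,0,0,8,0,0,0,0,0],
  [0,0,0,0,0,0,0,0,0,0,0,0,0,0,0,0,0,8,0,0,0,0,0,0],
  [0,0,0,0,0,0,0,0,0,0,0,0,0,8,0,0,0,0,0,0,0,0,0,0],
  [0,0,0,0,0,0,0,0,0,0,0,0,0,0,0,0,0,0,0,0,8,0,0,0],
  [0,8,0,0,0,0,0,0,0,0,0,0,0,0,0,0,0,0,0,0,0,0,0,0],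
  [0,0,8,0,0,0,0,0,0,0,0,0,0,0,0,0,0,0,0,0,0,0,0,0],
  [0,0,0,0,0,0,0,0,0,0,0,0,0,0,0,8,0,0,0,0,0,0,0,0],
  [0,0,0,0,0,0,0,0,0,0,0,0,0,0,0,0,0,0,0,0,0,0,8,0],
  [0,0,0,0,0,0,0,0,0,0,0,0,0,0,0,0,0,0,0,0,0,0,0,8],
  [0,0,0,0,8,0,0,0,0,0,0,0,0,0,0,0,0,0,0,0,0,0,0,0],
  [0,0,0,0,0,0,0,0,0,0,0,0,0,0,0,0,8,0,0,0,0,0,0,0],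
  [0,0,0,0,0,0,0,0,0,0,0,8,0,0,0,0,0,0,0,0,0,0,0,0],
  [0,0,0,0,0,0,0,8,0,0,0,0,0,0,0,0,0,0,0,0,0,0,0,0],
  [0,0,0,0,0,0,8,0,0,0,0,0,0,0,0,0,0,0,0,0,0,0,0,0],
  [0,0,0,0,0,0,0,0,0,0,0,0,0,0,0,0,0,0,0,8,0,0,0,0],
  [0,0,0,0,0,0,0,0,0,0,0,0,0,0,0,0,0,0,0,0,0,8,0,0],
  [0,0,0,0,0,8,0,0,0,0,0,0,0,0,0,0,0,0,0,0,0,0,0,0],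
  [0,0,0,0,0,0,0,0,0,0,8,0,0,0,0,0,0,0,0,0,0,0,0,0],
  [0,0,0,0,0,0,0,0,0,0,0,0,8,0,0,0,0,0,0,0,0,0,0,0],
  [0,0,0,0,0,0,0,0,0,0,0,0,0,0,8,0,0,0,0,0,0,0,0,0],
  [8,0,0,0,0,0,0,0,0,0,0,0,0,0,0,0,0,0,0,0,0,0,0,0],
  [0,0,0,0,0,0,0,0,0,8,0,0,0,0,0,0,0,0,0,0,0,0,0,0]]

end Cfsg.Agent.H388.CoMat
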